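import Mathlib
import Groth.Prelude.Def_EGA41

/-!
# Kernels between imperfection modules
-/

set_option autoImplicit false
set_option linter.style.haveILetI false
set_option maxHeartbeats 1000000
universe u₀ u₁ w

open TensorProduct KaehlerDifferential

namespace GrothLib.ImperfDelta

variable (R : Type u₀) (k : Type u₁) (K M : Type w) [CommRing R] [CommRing k] [CommRing K] [CommRing M]
  [Algebra R k] [Algebra R K] [Algebra k K] [IsScalarTower R k K] [Algebra K M] [Algebra k M] [IsScalarTower k K M]

/-- The differentials of the intermediate ring inside those of the top ring, after base change. -/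
noncomputable def inner : M ⊗[k] Ω[k⁄R] →ₗ[M] M ⊗[K] Ω[K⁄R] :=
  (mapBaseChange R k K).baseChange M ∘ₗ
    (AlgebraTensorModule.cancelBaseChange k K M M Ω[k⁄R]).symm.toLinearMap

theorem inner_tmul (m : M) (ω : Ω[k⁄R]) : inner R k K M (m ⊗ₜ ω) = m ⊗ₜ map R R k K ω := by
  show m ⊗ₜ[K] mapBaseChange R k K ((1 : K) ⊗ₜ[k] ω) = _
  rw [mapBaseChange_tmul, one_smul]

/-- The inner differentials are the kernel of passing to the relative differentials. -/
theorem range_inner : LinearMap.range (inner R k K M) = LinearMap.ker ((map R k K K).baseChange M) := by
  rw [inner, LinearMap.range_comp_of_range_eq_top _ (LinearEquiv.range _)]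
  ext z
  exact (lTensor_exact M (exact_mapBaseChange_map R k K) (map_surjective R k K) z).symm

theorem map_inner_eq_zero (t : M ⊗[k] Ω[k⁄R]) : (map R k K K).baseChange M (inner R k K M t) = 0 := by
  have : inner R k K M t ∈ LinearMap.ker ((map R k K K).baseChange M) := range_inner R k K M ▸ ⟨t, rfl⟩
  exact this

theorem map_map {S : Type u₁} {S' : Type*} [CommRing S] [CommRing S'] [Algebra R S] [Algebra R S'] [Algebra S S'] [IsScalarTower R S S']
    [Algebra S K] [Algebra S' K] [IsScalarTower R S K] [IsScalarTower S S' K] [IsScalarTower R S' K] (x : Ω[K⁄R]) :
    map S S' K K (map R S K K x) = map R S' K K x := by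
  induction Submodule.eq_top_iff'.1 (span_range_derivation R K) x using Submodule.span_induction with
  | mem x hx =>
    obtain ⟨a, rfl⟩ := hx
    simp only [map_D, Algebra.algebraMap_self, RingHom.id_apply]
  | zero => simp only [map_zero]
  | add a b _ _ ha hb => simp only [map_add, ha, hb]
  | smul c a _ ha => simp only [map_smul, ha]

/-- The baseChange form of `map_map`. -/
theorem baseChange_map_map {S : Type u₁} {S' : Type*} [CommRing S] [CommRing S'] [Algebra R S] [Algebra R S'] [Algebra S S'] [IsScalarTower R S S']
    [Algebra S K] [Algebra S' K] [IsScalarTower R S K] [IsScalarTower S S' K] [IsScalarTower R S' K] (x : M ⊗[K] Ω[K⁄R]) :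
    (map S S' K K).baseChange M ((map R S K K).baseChange M x) = (map R S' K K).baseChange M x := by
  induction x using TensorProduct.induction_on with
  | zero => simp only [map_zero]
  | tmul m x => simp only [LinearMap.baseChange_tmul, map_map]
  | add a b ha hb => simp only [map_add, ha, hb]

/-- Differentials of the intermediate ring map to the differentials of the top ring as expected. -/
theorem mapBaseChange_inner [Algebra R M] [IsScalarTower R K M] [IsScalarTower R k M] (t : M ⊗[k] Ω[k⁄R]) :
    mapBaseChange R K M (inner R k K M t) = mapBaseChange R k M t := by
  induction t using TensorProduct.induction_on with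
  | zero => simp only [map_zero]
  | tmul m x =>
    rw [inner_tmul, mapBaseChange_tmul, mapBaseChange_tmul]
    congr 1
    induction Submodule.eq_top_iff'.1 (span_range_derivation R k) x using Submodule.span_induction with
    | mem x hx =>
      obtain ⟨a, rfl⟩ := hx
      simp only [map_D]
      rw [← IsScalarTower.algebraMap_apply]
    | zero => simp only [map_zero]
    | add a b _ _ ha hb => simp only [map_add, ha, hb]
    | smul c a _ ha => simp only [map_smul, ha, LinearMap.map_smul_of_tower]
  | add a b ha hb => simp only [map_add, ha, hb]

/-- Passing to the relative differentials commutes with the map to the differentials of the top ring. -/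
theorem mapBaseChange_map [Algebra R M] [IsScalarTower R K M] [IsScalarTower R k M] (z : M ⊗[K] Ω[K⁄R]) :
    mapBaseChange k K M ((map R k K K).baseChange M z) = map R k M M (mapBaseChange R K M z) := by
  induction z using TensorProduct.induction_on with
  | zero => simp only [map_zero]
  | tmul m x =>
    rw [LinearMap.baseChange_tmul, mapBaseChange_tmul, mapBaseChange_tmul, map_smul]
    congr 1
    induction Submodule.eq_top_iff'.1 (span_range_derivation R K) x using Submodule.span_induction with
    | mem x hx =>
      obtain ⟨a, rfl⟩ := hx
      simp only [map_D, Algebra.algebraMap_self, RingHom.id_apply]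
    | zero => simp only [map_zero]
    | add a b _ _ ha hb => simp only [map_add, ha, hb]
    | smul c a _ ha => simp only [map_smul, ha, LinearMap.map_smul_of_tower]
  | add a b ha hb => simp only [map_add, ha, hb]

theorem inner_inner {S : Type w} [CommRing S] [Algebra R S] [Algebra S K] [IsScalarTower R S K] [Algebra S M]
    [IsScalarTower S K M] [Algebra k S] [IsScalarTower R k S] [IsScalarTower k S K] [IsScalarTower k S M] (t : M ⊗[k] Ω[k⁄R]) :
    inner R S K M (inner R k S M t) = inner R k K M t := by
  induction t using TensorProduct.induction_on with
  | zero => simp only [map_zero]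
  | tmul m x =>
    rw [inner_tmul, inner_tmul, inner_tmul]
    congr 1
    induction Submodule.eq_top_iff'.1 (span_range_derivation R k) x using Submodule.span_induction with
    | mem x hx =>
      obtain ⟨a, rfl⟩ := hx
      simp only [map_D]
      rw [← IsScalarTower.algebraMap_apply]
    | zero => simp only [map_zero]
    | add a b _ _ ha hb => simp only [map_add, ha, hb]
    | smul c a _ ha => simp only [map_smul, ha, LinearMap.map_smul_of_tower]
  | add a b ha hb => simp only [map_add, ha, hb]

/-- Passing to relative differentials commutes with enlarging the top ring. -/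
theorem map_inner {S : Type w} [CommRing S] [Algebra R S] [Algebra k S] [IsScalarTower R k S] [Algebra S K]
    [IsScalarTower R S K] [IsScalarTower k S K] [Algebra S M] [IsScalarTower S K M] (z : M ⊗[S] Ω[S⁄R]) :
    (map R k K K).baseChange M (inner R S K M z) = inner k S K M ((map R k S S).baseChange M z) := by
  induction z using TensorProduct.induction_on with
  | zero => simp only [map_zero]
  | tmul m x =>
    rw [inner_tmul, LinearMap.baseChange_tmul, LinearMap.baseChange_tmul, inner_tmul]
    congr 1
    induction Submodule.eq_top_iff'.1 (span_range_derivation R S) x using Submodule.span_induction with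
    | mem x hx =>
      obtain ⟨a, rfl⟩ := hx
      simp only [map_D, Algebra.algebraMap_self, RingHom.id_apply]
    | zero => simp only [map_zero]
    | add a b _ _ ha hb => simp only [map_add, ha, hb]
    | smul c a _ ha => simp only [map_smul, ha, LinearMap.map_smul_of_tower]
  | add a b ha hb => simp only [map_add, ha, hb]

end GrothLib.ImperfDelta
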